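import Groth.Agent.Lib.MTUnion29.Stage
import Mathlib.RingTheory.Finiteness.Descent
import Mathlib.RingTheory.RingHom.FinitePresentation
import Mathlib.RingTheory.Localization.BaseChange

/-!
# Groups of multiplicative type over a directed union of rings descend
-/

set_option autoImplicit false
set_option linter.style.haveILetI false

universe u

open TensorProduct

noncomputable section

namespace Groth.Agent.MTUnion29

open MultTypeLib

/-- A split group of finite type is split by a finitely generated group. -/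
theorem exists_fg_iso {T X : Type u} [CommRing T] [CommRing X] [HopfAlgebra T X] [Algebra.FiniteType T X]
    (h : SGA3b.IsDiag T X) :
    ∃ (M : Type u) (_ : CommGroup M), Group.FG M ∧ Nonempty (X ≃ₐc[T] MonoidAlgebra T M) := by
  obtain ⟨M, _, ⟨e⟩⟩ := h
  rcases subsingleton_or_nontrivial T with hT | hT
  · haveI : Subsingleton X := Module.subsingleton T X
    haveI : Subsingleton (MonoidAlgebra T PUnit.{u + 1}) := Module.subsingleton T _
    haveI : Subsingleton (MonoidAlgebra T PUnit.{u + 1} ⊗[T] MonoidAlgebra T PUnit.{u + 1}) :=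
      Module.subsingleton T _
    refine ⟨PUnit.{u + 1}, inferInstance, inferInstance, ⟨BialgEquiv.ofAlgEquiv
      { toFun := fun _ => 0
        invFun := fun _ => 0
        left_inv := fun _ => Subsingleton.elim _ _
        right_inv := fun _ => Subsingleton.elim _ _
        map_mul' := fun _ _ => Subsingleton.elim _ _
        map_add' := fun _ _ => Subsingleton.elim _ _
        commutes' := fun _ => Subsingleton.elim _ _ } ?_ ?_⟩⟩
    · exact AlgHom.ext fun _ => Subsingleton.elim _ _
    · exact AlgHom.ext fun _ => Subsingleton.elim _ _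
  · haveI : Algebra.FiniteType T (MonoidAlgebra T M) := Algebra.FiniteType.equiv inferInstance e.toAlgEquiv
    exact ⟨M, inferInstance, Group.fg_iff_monoid_fg.2 (MonoidAlgebra.finiteType_iff_fg.1 this), ⟨e⟩⟩

theorem fp_of_isDiag {T X : Type u} [CommRing T] [CommRing X] [HopfAlgebra T X] [Algebra.FiniteType T X]
    (h : SGA3b.IsDiag T X) : Algebra.FinitePresentation T X := by
  obtain ⟨M, _, hM, ⟨e⟩⟩ := exists_fg_iso h
  haveI : Monoid.FG M := Group.fg_iff_monoid_fg.1 hM
  haveI : Algebra.FinitePresentation ℤ (MonoidAlgebra ℤ M) :=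
    Algebra.FinitePresentation.of_finiteType.1 inferInstance
  haveI : Algebra.FinitePresentation T (MonoidAlgebra T M) :=
    Algebra.FinitePresentation.equiv (MonoidAlgebra.scalarTensorEquiv ℤ T (M := M))
  exact Algebra.FinitePresentation.equiv e.toAlgEquiv.symm

variable {A : Type u} [CommRing A] {C : Type u} [CommRing C] [HopfAlgebra A C]

theorem fp_of_cover [Algebra.FiniteType A C] (R' : Type u) [CommRing R'] [Algebra A R']
    [Module.FaithfullyFlat A R'] (hd : SGA3b.IsDiag R' (R' ⊗[A] C)) : Algebra.FinitePresentation A C := by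
  haveI := fp_of_isDiag hd
  exact Algebra.FinitePresentation.of_finitePresentation_tensorProduct_of_faithfullyFlat R'

theorem fp_of_quasiIsotrivial [Algebra.FiniteType A C] (h : SGA3b.IsQuasiIsotrivial A C) :
    Algebra.FinitePresentation A C := by
  obtain ⟨s, hs, hf⟩ := h
  refine RingHom.finitePresentation_algebraMap.1
    (RingHom.finitePresentation_ofLocalizationSpanTarget (algebraMap A C) (algebraMap A C '' s)
      (by rw [← Ideal.map_span, hs, Ideal.map_top]) fun ⟨g, hg⟩ => ?_)
  obtain ⟨f, hfs, rfl⟩ := hg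
  obtain ⟨R', _, _, _, _, hd⟩ := hf f hfs
  let Af := Localization.Away f
  haveI : Algebra.FinitePresentation Af (Af ⊗[A] C) := fp_of_cover R' hd
  haveI : Algebra.FinitePresentation A Af := IsLocalization.Away.finitePresentation f
  haveI : Algebra.FinitePresentation A (Af ⊗[A] C) := Algebra.FinitePresentation.trans A Af _
  letI : Algebra C (Af ⊗[A] C) := Algebra.TensorProduct.rightAlgebra
  haveI : IsScalarTower A C (Af ⊗[A] C) := IsScalarTower.of_algebraMap_eq fun r =>
    Algebra.TensorProduct.tmul_one_eq_one_tmul r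
  haveI : IsLocalization.Away (algebraMap A C f) (Af ⊗[A] C) := by
    have : IsLocalization (Algebra.algebraMapSubmonoid C (Submonoid.powers f)) (Af ⊗[A] C) :=
      inferInstance
    rwa [Algebra.algebraMapSubmonoid_powers] at this
  show RingHom.FinitePresentation ((algebraMap C (Localization.Away (algebraMap A C f))).comp (algebraMap A C))
  rw [← IsScalarTower.algebraMap_eq, RingHom.finitePresentation_algebraMap]
  exact Algebra.FinitePresentation.equiv
    ((IsLocalization.algEquiv (Submonoid.powers (algebraMap A C f)) (Af ⊗[A] C)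
      (Localization.Away (algebraMap A C f))).restrictScalars A)

section Transfer

variable {S : Type u} [CommRing S] {C₁ : Type u} [CommRing C₁] [HopfAlgebra S C₁]

/-- A splitting cover pushes forward. -/
theorem transfer {T R₀ L : Type u} [CommRing T] [CommRing R₀] [Algebra S T] [Algebra T R₀] [Algebra S R₀]
    [IsScalarTower S T R₀] [Algebra.Etale T R₀] [Module.FaithfullyFlat T R₀] [CommRing L] [Algebra S L]
    (φ : T →ₐ[S] L) (hd : SGA3b.IsDiag R₀ (R₀ ⊗[S] C₁)) :
    SGA3b.IsQuasiIsotrivialConst L (L ⊗[S] C₁) ∧ (Module.Finite T R₀ → SGA3b.IsIsotrivial L (L ⊗[S] C₁)) := by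
  letI : Algebra T L := φ.toRingHom.toAlgebra
  haveI : IsScalarTower S T L := IsScalarTower.of_algebraMap_eq fun s => (φ.commutes s).symm
  let R'' := L ⊗[T] R₀
  letI : Algebra R₀ R'' := Algebra.TensorProduct.rightAlgebra
  haveI : IsScalarTower S R₀ R'' := IsScalarTower.of_algebraMap_eq fun s => by
    rw [IsScalarTower.algebraMap_apply S T R₀]
    show _ = (1 : L) ⊗ₜ[T] algebraMap T R₀ (algebraMap S T s)
    rw [← Algebra.TensorProduct.tmul_one_eq_one_tmul, ← IsScalarTower.algebraMap_apply S T L]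
    rfl
  have h : SGA3b.IsDiag R'' (R'' ⊗[L] (L ⊗[S] C₁)) :=
    isDiag_tensor_tensor L R'' (isDiag_baseChange R₀ R'' hd)
  exact ⟨⟨R'', inferInstance, inferInstance, inferInstance, inferInstance, h⟩,
    fun _ => ⟨R'', inferInstance, inferInstance, inferInstance, inferInstance, inferInstance, h⟩⟩

end Transfer

variable {ι : Type u} [Preorder ι] [IsDirected ι (· ≤ ·)] [Nonempty ι] (B : ι → Subring A) (hmono : Monotone B)
  (hsup : ⨆ i, B i = ⊤)

include hmono hsup in
theorem exists_stage_mem (F : Finset A) : ∃ j, ∀ x ∈ F, x ∈ B j := by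
  classical
  have h : ∀ x : A, ∃ j, x ∈ B j := fun x =>
    (Subring.mem_iSup_of_directed hmono.directed_le).1 (hsup ▸ Subring.mem_top x)
  choose g hg using h
  obtain ⟨j, hj⟩ := (F.image g).exists_le
  exact ⟨j, fun x hx => hmono (hj _ (Finset.mem_image_of_mem _ hx)) (hg x)⟩

omit [Preorder ι] [IsDirected ι (· ≤ ·)] [Nonempty ι] in
theorem algebraMap_mem {S : Type u} [CommRing S] [Algebra S A] {σ : Finset S}
    (hσ : Algebra.adjoin ℤ (σ : Set S) = ⊤) {j : ι} (h : ∀ x ∈ σ, algebraMap S A x ∈ B j) (x : S) :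
    algebraMap S A x ∈ B j := by
  have hle : Algebra.adjoin ℤ (σ : Set S) ≤ subalgebraOfSubring ((B j).comap (algebraMap S A)) :=
    Algebra.adjoin_le fun y hy => h y hy
  exact hle (hσ ▸ Algebra.mem_top)

variable [Algebra.FiniteType A C]

include hmono hsup in
theorem isotrivial_descends (h : SGA3b.IsIsotrivial A C) :
    ∃ (i : ι) (Ci : Type u) (_ : CommRing Ci) (_ : HopfAlgebra (B i) Ci),
      Algebra.FiniteType (B i) Ci ∧ SGA3b.IsIsotrivial (B i) Ci ∧ Nonempty ((A ⊗[B i] Ci) ≃ₐc[A] C) := by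
  classical
  obtain ⟨R', _, _, _, hfin, hff, hd⟩ := h
  haveI := hff
  obtain ⟨S, _, _, C₁, _, _, hS, hC₁, ⟨e₀⟩⟩ := exists_hopf_model (fp_of_cover R' hd)
  haveI := hS
  haveI := hC₁
  letI : Algebra S R' := ((algebraMap A R').comp (algebraMap S A)).toAlgebra
  haveI : IsScalarTower S A R' := IsScalarTower.of_algebraMap_eq' rfl
  obtain ⟨M, _, _, ⟨eM⟩⟩ := exists_fg_iso
    (isDiag_congr (cancelBC S C₁ A R') (isDiag_congr (bcEquiv R' e₀.symm) hd))
  obtain ⟨T, R₀, _, _, _, _, hTfg, _, _, hT, hd₀⟩ := exists_fg_split (A := A) R' eM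
  obtain ⟨σ, hσ⟩ := (inferInstance : Algebra.FiniteType ℤ S).out
  obtain ⟨t, ht⟩ := hTfg
  obtain ⟨j, hj⟩ := exists_stage_mem B hmono hsup (σ.image (algebraMap S A) ∪ t)
  have hmem := algebraMap_mem B hσ fun x hx => hj _ (Finset.mem_union_left _ (Finset.mem_image_of_mem _ hx))
  letI : Algebra S (B j) := ((algebraMap S A).codRestrict (B j) hmem).toAlgebra
  haveI : IsScalarTower S (B j) A := IsScalarTower.of_algebraMap_eq fun _ => rfl
  let Bs : Subalgebra S A := { (B j).toSubsemiring with algebraMap_mem' := hmem }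
  have hle : T ≤ Bs := ht ▸ Algebra.adjoin_le fun x hx => hj x (Finset.mem_union_right _ hx)
  let φ : T →ₐ[S] B j :=
    { toFun := fun x => ⟨x.1, hle x.2⟩
      map_one' := rfl
      map_mul' := fun _ _ => rfl
      map_zero' := rfl
      map_add' := fun _ _ => rfl
      commutes' := fun _ => rfl }
  exact ⟨j, (B j) ⊗[S] C₁, inferInstance, inferInstance, inferInstance,
    (transfer φ hd₀).2 (hT hfin), ⟨(cancelBC S C₁ (B j) A).trans e₀⟩⟩

set_option maxHeartbeats 1000000 in
include hmono hsup in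
theorem quasiIsotrivial_descends (h : SGA3b.IsQuasiIsotrivial A C) :
    ∃ (i : ι) (Ci : Type u) (_ : CommRing Ci) (_ : HopfAlgebra (B i) Ci),
      Algebra.FiniteType (B i) Ci ∧ SGA3b.IsQuasiIsotrivial (B i) Ci ∧ Nonempty ((A ⊗[B i] Ci) ≃ₐc[A] C) := by
  classical
  obtain ⟨S, _, _, C₁, _, _, hS, hC₁, ⟨e₀⟩⟩ := exists_hopf_model (fp_of_quasiIsotrivial h)
  haveI := hS
  haveI := hC₁
  obtain ⟨s, hs, hf⟩ := h
  obtain ⟨s₀, hs₀, h1⟩ := Submodule.mem_span_finite_of_mem_span
    (show (1 : A) ∈ Submodule.span A s from (Ideal.eq_top_iff_one _).1 hs)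
  obtain ⟨c, -, hc⟩ := Submodule.mem_span_finset.1 h1
  -- the local covers
  have key : ∀ f : s₀, ∃ (T : Subalgebra S (Localization.Away (f : A))) (R₀ : Type u) (_ : CommRing R₀)
      (_ : Algebra T R₀) (_ : Algebra S R₀) (_ : IsScalarTower S T R₀), T.FG ∧ Algebra.Etale T R₀ ∧
      Module.FaithfullyFlat T R₀ ∧ SGA3b.IsDiag R₀ (R₀ ⊗[S] C₁) := by
    rintro ⟨f, hfs⟩
    obtain ⟨R', _, _, _, hff, hd⟩ := hf f (hs₀ hfs)
    haveI := hff
    let Af := Localization.Away f
    letI : Algebra A R' := ((algebraMap Af R').comp (algebraMap A Af)).toAlgebra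
    haveI : IsScalarTower A Af R' := IsScalarTower.of_algebraMap_eq' rfl
    letI : Algebra S R' := ((algebraMap A R').comp (algebraMap S A)).toAlgebra
    haveI : IsScalarTower S A R' := IsScalarTower.of_algebraMap_eq' rfl
    haveI : IsScalarTower S Af R' := IsScalarTower.of_algebraMap_eq fun r => by
      rw [IsScalarTower.algebraMap_apply S A Af]
      rfl
    obtain ⟨M, _, _, ⟨eM⟩⟩ := exists_fg_iso (isDiag_congr (cancelBC S C₁ A R')
      (isDiag_congr (bcEquiv R' e₀.symm) (isDiag_of_tensor_tensor Af R' hd)))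
    obtain ⟨T, R₀, i1, i2, i3, i4, hTfg, he, hf', -, hd₀⟩ := exists_fg_split (A := Af) R' eM
    exact ⟨T, R₀, i1, i2, i3, i4, hTfg, he, hf', hd₀⟩
  choose T R₀ i1 i2 i3 i4 hTfg he hff hd₀ using key
  have hgen : ∀ f : s₀, ∃ F : Finset A, ∀ (L : Type u) [CommRing L] [Algebra S L]
      (φ : L →ₐ[S] Localization.Away (f : A)), (∀ x ∈ F, algebraMap A _ x ∈ φ.range) →
      (∀ n : ℕ, ∃ y, φ y * algebraMap A _ ((f : A) ^ n) = 1) → T f ≤ φ.range := by
    intro f
    obtain ⟨t, ht⟩ := hTfg f
    choose a n hn using fun x : Localization.Away (f : A) => IsLocalization.Away.surj (f : A) x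
    refine ⟨t.image n, fun L _ _ φ hF hinv => ?_⟩
    rw [← ht]
    refine Algebra.adjoin_le fun x hx => ?_
    obtain ⟨y, hy⟩ := hinv (a x)
    obtain ⟨b, hb⟩ := hF _ (Finset.mem_image_of_mem n hx)
    refine ⟨b * y, ?_⟩
    rw [map_mul]
    show φ b * φ y = x
    rw [show φ b = _ from hb, ← hn x, ← map_pow, mul_assoc, mul_comm _ (φ y), hy, mul_one]
  choose F hF using hgen
  obtain ⟨σ, hσ⟩ := (inferInstance : Algebra.FiniteType ℤ S).out
  obtain ⟨j, hj⟩ := exists_stage_mem B hmono hsup
    (σ.image (algebraMap S A) ∪ (s₀ ∪ s₀.image c ∪ Finset.univ.biUnion F))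
  have hmem := algebraMap_mem B hσ fun x hx => hj _ (Finset.mem_union_left _ (Finset.mem_image_of_mem _ hx))
  have hs₀j : ∀ x ∈ s₀, x ∈ B j := fun x hx =>
    hj x (Finset.mem_union_right _ (Finset.mem_union_left _ (Finset.mem_union_left _ hx)))
  have hcj : ∀ x ∈ s₀, c x ∈ B j := fun x hx =>
    hj _ (Finset.mem_union_right _ (Finset.mem_union_left _ (Finset.mem_union_right _ (Finset.mem_image_of_mem c hx))))
  letI : Algebra S (B j) := ((algebraMap S A).codRestrict (B j) hmem).toAlgebra
  haveI : IsScalarTower S (B j) A := IsScalarTower.of_algebraMap_eq fun _ => rfl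
  refine ⟨j, (B j) ⊗[S] C₁, inferInstance, inferInstance, inferInstance, ?_, ⟨(cancelBC S C₁ (B j) A).trans e₀⟩⟩
  refine ⟨Set.range fun f : s₀ => (⟨f, hs₀j f f.2⟩ : B j), ?_, ?_⟩
  · rw [Ideal.eq_top_iff_one]
    have h2 : (1 : B j) = ∑ f : s₀, (⟨c f, hcj f f.2⟩ : B j) * ⟨f, hs₀j f f.2⟩ := by
      refine Subtype.ext ?_
      rw [AddSubmonoidClass.coe_finsetSum]
      refine hc.symm.trans ?_
      rw [← Finset.sum_coe_sort]
      rfl
    rw [h2]
    exact Ideal.sum_mem _ fun f _ => Ideal.mul_mem_left _ _ (Ideal.subset_span ⟨f, rfl⟩)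
  · rintro _ ⟨f, rfl⟩
    let fj : B j := ⟨f, hs₀j f f.2⟩
    let L := Localization.Away fj
    let Af := Localization.Away (f : A)
    let φr : L →+* Af := IsLocalization.Away.lift fj (g := (algebraMap A Af).comp (B j).subtype)
      (IsLocalization.Away.algebraMap_isUnit (f : A))
    have hφr : ∀ b : B j, φr (algebraMap (B j) L b) = algebraMap A Af (b : A) := fun b =>
      IsLocalization.Away.lift_eq fj _ b
    let φ : L →ₐ[S] Af :=
      { φr with
        commutes' := fun r => by
          show φr (algebraMap S L r) = algebraMap S Af r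
          rw [IsScalarTower.algebraMap_apply S (B j) L, hφr, IsScalarTower.algebraMap_apply S A Af]
          rfl }
    have hinj : Function.Injective φ := by
      rw [injective_iff_map_eq_zero]
      intro x hx
      obtain ⟨n, b, hb⟩ := IsLocalization.Away.surj fj x
      have h1 : algebraMap A Af (b : A) = 0 := by
        rw [← hφr, ← hb, map_mul, show φr x = 0 from hx, zero_mul]
      obtain ⟨⟨_, m, rfl⟩, hm⟩ := (IsLocalization.map_eq_zero_iff (Submonoid.powers (f : A)) Af _).1 h1
      have h2 : algebraMap (B j) L b = 0 :=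
        (IsLocalization.map_eq_zero_iff (Submonoid.powers fj) L b).2 ⟨⟨_, m, rfl⟩, Subtype.ext hm⟩
      rw [h2] at hb
      exact ((IsLocalization.Away.algebraMap_isUnit fj).pow n).mul_left_eq_zero.1 hb
    have hle : T f ≤ φ.range := hF f L φ
      (fun x hx => ⟨algebraMap (B j) L ⟨x, hj x (Finset.mem_union_right _ (Finset.mem_union_right _
        (Finset.mem_biUnion.2 ⟨f, Finset.mem_univ _, hx⟩)))⟩, hφr _⟩)
      (fun n => by
        obtain ⟨u, hu⟩ := (IsLocalization.Away.algebraMap_isUnit (S := L) fj).pow n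
        refine ⟨↑u⁻¹, ?_⟩
        show φr _ * _ = 1
        rw [show algebraMap A Af ((f : A) ^ n) = φr ↑u by rw [hu, map_pow, map_pow, hφr], ← map_mul,
          Units.inv_mul, map_one])
    letI := i1 f
    letI := i2 f
    letI := i3 f
    haveI := i4 f
    haveI := he f
    haveI := hff f
    let ψ : T f →ₐ[S] L := (AlgEquiv.ofInjective φ hinj).symm.toAlgHom.comp (Subalgebra.inclusion hle)
    obtain ⟨R'', _, _, hE, hFF, hD⟩ := (transfer ψ (hd₀ f)).1
    exact ⟨R'', inferInstance, inferInstance, hE, hFF,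
      isDiag_congr (bcEquiv R'' (cancelBC S C₁ (B j) L).symm) hD⟩

end Groth.Agent.MTUnion29
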