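import Groth.Agent.Lib.MultType.Spread
import Mathlib.RingTheory.Flat.FaithfullyFlat.Algebra

/-!
# Etale covers splitting a group of multiplicative type descend to a finite stage
-/

set_option autoImplicit false
set_option linter.style.haveILetI false

universe u

open TensorProduct

noncomputable section

namespace Groth.Agent.MTUnion29

open MultTypeLib

section Cover

variable {A₀ A B₀ : Type u} [CommRing A₀] [CommRing A] [Algebra A₀ A] [CommRing B₀] [Algebra A₀ B₀]

/-- Surjectivity of an open map of spectra descends to a finite stage. -/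
theorem exists_stage_surj [Module.Flat A₀ B₀] [Algebra.FinitePresentation A₀ B₀]
    [Module.FaithfullyFlat A (A ⊗[A₀] B₀)] :
    ∃ T₀ : Subalgebra A₀ A, T₀.FG ∧ ∀ T : Subalgebra A₀ A, T₀ ≤ T → Module.FaithfullyFlat T (T ⊗[A₀] B₀) := by
  classical
  have hopen : IsOpen (Set.range (PrimeSpectrum.comap (algebraMap A₀ B₀))) :=
    (PrimeSpectrum.isOpenMap_comap_of_hasGoingDown_of_finitePresentation).isOpen_range
  obtain ⟨I, hI⟩ := (PrimeSpectrum.isClosed_iff_zeroLocus_ideal _).1 hopen.isClosed_compl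
  have htop : I.map (algebraMap A₀ A) = ⊤ := by
    by_contra hne
    obtain ⟨m, hm, hle⟩ := Ideal.exists_le_maximal _ hne
    obtain ⟨Q, hQ⟩ := PrimeSpectrum.comap_surjective_of_faithfullyFlat (B := A ⊗[A₀] B₀)
      (⟨m, hm.isPrime⟩ : PrimeSpectrum A)
    have h1 : PrimeSpectrum.comap (algebraMap A₀ A) ⟨m, hm.isPrime⟩ ∈
        Set.range (PrimeSpectrum.comap (algebraMap A₀ B₀)) := by
      refine ⟨PrimeSpectrum.comap (Algebra.TensorProduct.includeRight : B₀ →ₐ[A₀] A ⊗[A₀] B₀).toRingHom Q, ?_⟩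
      rw [← hQ, ← PrimeSpectrum.comap_comp_apply, ← PrimeSpectrum.comap_comp_apply]
      refine congrFun (congrArg _ (RingHom.ext fun r => ?_)) Q
      exact (Algebra.TensorProduct.tmul_one_eq_one_tmul r).symm
    have h2 : PrimeSpectrum.comap (algebraMap A₀ A) ⟨m, hm.isPrime⟩ ∈ PrimeSpectrum.zeroLocus (I : Set A₀) :=
      fun x hx => hle (Ideal.mem_map_of_mem _ hx)
    rw [← hI] at h2
    exact h2 h1
  obtain ⟨n, f, g, hfg⟩ := Submodule.mem_span_set'.1 ((Ideal.eq_top_iff_one _).1 htop)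
  refine ⟨Algebra.adjoin A₀ (Set.range f), Subalgebra.fg_def.2 ⟨_, Set.finite_range f, rfl⟩, fun T hT => ?_⟩
  refine Module.FaithfullyFlat.of_comap_surjective fun p => ?_
  let p₀ := PrimeSpectrum.comap (algebraMap A₀ T) p
  have hp₀ : p₀ ∈ Set.range (PrimeSpectrum.comap (algebraMap A₀ B₀)) := by
    by_contra hc
    have hI' : p₀ ∈ PrimeSpectrum.zeroLocus (I : Set A₀) := by rw [← hI]; exact hc
    choose y hy hyg using fun i => (g i).2
    have h1 : (1 : T) = ∑ i, (⟨f i, hT (Algebra.subset_adjoin ⟨i, rfl⟩)⟩ : T) * algebraMap A₀ T (y i) := by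
      refine Subtype.ext ?_
      rw [AddSubmonoidClass.coe_finsetSum]
      refine hfg.symm.trans (Finset.sum_congr rfl fun i _ => ?_)
      rw [smul_eq_mul, ← hyg i]
      rfl
    refine p.asIdeal.ne_top_iff_one.1 p.isPrime.ne_top ?_
    rw [h1]
    exact Ideal.sum_mem _ fun i _ => Ideal.mul_mem_left _ _ (hI' (hy i))
  rw [← Set.mem_range, ← PrimeSpectrum.nontrivial_iff_mem_rangeComap]
  haveI := (PrimeSpectrum.nontrivial_iff_mem_rangeComap (S := B₀) p₀).2 hp₀
  let k₀ := p₀.asIdeal.ResidueField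
  let k := p.asIdeal.ResidueField
  let ι : k₀ →ₐ[A₀] k := Ideal.ResidueField.mapₐ p₀.asIdeal p.asIdeal (Algebra.ofId A₀ T) rfl
  letI : Algebra k₀ k := ι.toRingHom.toAlgebra
  haveI : IsScalarTower A₀ k₀ k := IsScalarTower.of_algebraMap_eq fun r => (ι.commutes r).symm
  haveI : Nontrivial (k ⊗[k₀] (k₀ ⊗[A₀] B₀)) :=
    (Module.FaithfullyFlat.tensorProduct_mk_injective (A := k₀) (B := k) (k₀ ⊗[A₀] B₀)).nontrivial
  haveI : Nontrivial (k ⊗[A₀] B₀) :=
    (Algebra.TensorProduct.cancelBaseChange A₀ k₀ k k B₀).injective.nontrivial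
  exact (Algebra.TensorProduct.cancelBaseChange A₀ T k k B₀).symm.injective.nontrivial

/-- Finiteness descends to a finite stage. -/
theorem exists_stage_finite [Algebra.FiniteType A₀ B₀] [Module.Finite A (A ⊗[A₀] B₀)] :
    ∃ T₀ : Subalgebra A₀ A, T₀.FG ∧ ∀ T : Subalgebra A₀ A, T₀ ≤ T → Module.Finite T (T ⊗[A₀] B₀) := by
  classical
  have key : ∀ x : B₀, ∃ T₀ : Subalgebra A₀ A, T₀.FG ∧
      ∀ T : Subalgebra A₀ A, T₀ ≤ T → IsIntegral T ((1 : T) ⊗ₜ[A₀] x) := by
    intro x
    obtain ⟨p, hp, hpx⟩ := Algebra.IsIntegral.isIntegral (R := A) ((1 : A) ⊗ₜ[A₀] x)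
    let T₁ := Algebra.adjoin A₀ ((p.support.image p.coeff : Finset A) : Set A)
    have hl : p ∈ Polynomial.lifts T₁.val.toRingHom := by
      rw [Polynomial.lifts_iff_coeff_lifts]
      intro i
      by_cases hi : i ∈ p.support
      · exact ⟨⟨p.coeff i, Algebra.subset_adjoin (Finset.mem_coe.2 (Finset.mem_image_of_mem _ hi))⟩, rfl⟩
      · exact ⟨0, by rw [map_zero, Polynomial.notMem_support_iff.1 hi]⟩
    obtain ⟨q, hq, -, hqm⟩ := Polynomial.lifts_and_natDegree_eq_and_monic hl hp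
    let z := Polynomial.eval₂ (algebraMap T₁ (T₁ ⊗[A₀] B₀)) ((1 : T₁) ⊗ₜ[A₀] x) q
    have hz : subVal B₀ T₁ z = 0 := by
      rw [← hq] at hpx
      rw [Polynomial.eval₂_map] at hpx
      rw [← hpx]
      show (subVal B₀ T₁).toRingHom (Polynomial.eval₂ _ _ q) = _
      rw [Polynomial.hom_eval₂]
      rfl
    obtain ⟨T₂, h₁₂, hT₂, hz₂⟩ := exists_stage_zero (Subalgebra.fg_adjoin_finset _) hz
    refine ⟨T₂, hT₂, fun T hT => ⟨q.map (Subalgebra.inclusion (h₁₂.trans hT)).toRingHom, hqm.map _, ?_⟩⟩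
    have h : subPush B₀ (h₁₂.trans hT) z = 0 := by rw [← subPush_subPush B₀ h₁₂ hT, hz₂, map_zero]
    rw [Polynomial.eval₂_map, ← h]
    show _ = (subPush B₀ (h₁₂.trans hT)).toRingHom (Polynomial.eval₂ _ _ q)
    rw [Polynomial.hom_eval₂]
    rfl
  obtain ⟨s, hs⟩ := (inferInstance : Algebra.FiniteType A₀ B₀).out
  choose F hF hFi using key
  refine ⟨s.sup F, Finset.sup_induction Subalgebra.fg_bot (fun a ha b hb => ha.sup hb) fun x _ => hF x,
    fun T hT => ?_⟩
  have hle : Algebra.adjoin A₀ (s : Set B₀) ≤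
      ((integralClosure T (T ⊗[A₀] B₀)).restrictScalars A₀).comap
        (Algebra.TensorProduct.includeRight : B₀ →ₐ[A₀] T ⊗[A₀] B₀) :=
    Algebra.adjoin_le fun x hx => hFi x T ((Finset.le_sup (f := F) hx).trans hT)
  haveI : Algebra.IsIntegral T (T ⊗[A₀] B₀) := ⟨fun z => by
    induction z using TensorProduct.induction_on with
    | zero => exact isIntegral_zero
    | add a b ha hb => exact ha.add hb
    | tmul t b =>
      rw [show t ⊗ₜ[A₀] b = t • ((1 : T) ⊗ₜ[A₀] b) by rw [TensorProduct.smul_tmul', smul_eq_mul, mul_one]]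
      exact IsIntegral.smul t (hle (hs ▸ Algebra.mem_top : b ∈ Algebra.adjoin A₀ (s : Set B₀)))⟩
  exact Algebra.IsIntegral.finite

end Cover

set_option maxHeartbeats 2000000 in
set_option synthInstance.maxHeartbeats 200000 in
/-- An etale cover splitting a Hopf algebra is defined over a subalgebra of finite type. -/
theorem exists_fg_split {S A : Type u} [CommRing S] [Algebra.FiniteType ℤ S] [CommRing A] [Algebra S A]
    {C₁ : Type u} [CommRing C₁] [HopfAlgebra S C₁] [Algebra.FiniteType S C₁]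
    (R' : Type u) [CommRing R'] [Algebra A R'] [Algebra S R'] [IsScalarTower S A R'] [Algebra.Etale A R']
    [Module.FaithfullyFlat A R'] {M : Type u} [CommGroup M] [Group.FG M]
    (eM : R' ⊗[S] C₁ ≃ₐc[R'] MonoidAlgebra R' M) :
    ∃ (T : Subalgebra S A) (R₀ : Type u) (_ : CommRing R₀) (_ : Algebra T R₀) (_ : Algebra S R₀)
      (_ : IsScalarTower S T R₀), T.FG ∧ Algebra.Etale T R₀ ∧ Module.FaithfullyFlat T R₀ ∧
      (Module.Finite A R' → Module.Finite T R₀) ∧ SGA3b.IsDiag R₀ (R₀ ⊗[S] C₁) := by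
  classical
  haveI : IsNoetherianRing S := Algebra.FiniteType.isNoetherianRing ℤ S
  obtain ⟨A₀, B₀, _, _, hA₀, _, ⟨eP⟩⟩ := Algebra.Etale.exists_subalgebra_fg S A R'
  haveI : Algebra.FiniteType S A₀ := A₀.fg_iff_finiteType.1 hA₀
  haveI : Algebra.FiniteType ℤ A₀ := by
    convert! finiteType_int_subalgebra inferInstance A₀ hA₀
  haveI : IsNoetherianRing A₀ := Algebra.FiniteType.isNoetherianRing ℤ A₀
  haveI : IsNoetherianRing B₀ := Algebra.FiniteType.isNoetherianRing A₀ B₀
  letI : Algebra S B₀ := ((algebraMap A₀ B₀).comp (algebraMap S A₀)).toAlgebra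
  haveI : IsScalarTower S A₀ B₀ := IsScalarTower.of_algebraMap_eq' rfl
  let P := A ⊗[A₀] B₀
  haveI : Module.FaithfullyFlat A P := Module.FaithfullyFlat.of_linearEquiv A R' eP.symm.toLinearEquiv
  letI : Algebra R' P := eP.toAlgHom.toRingHom.toAlgebra
  haveI : IsScalarTower S R' P := IsScalarTower.of_algebraMap_eq fun r => by
    show algebraMap S P r = eP (algebraMap S R' r)
    rw [IsScalarTower.algebraMap_apply S A R', AlgEquiv.commutes, ← IsScalarTower.algebraMap_apply]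
  letI : Algebra B₀ P := Algebra.TensorProduct.rightAlgebra
  haveI : IsScalarTower A₀ B₀ P := IsScalarTower.of_algebraMap_eq fun a =>
    Algebra.TensorProduct.tmul_one_eq_one_tmul a
  haveI : IsScalarTower S B₀ P := IsScalarTower.of_algebraMap_eq fun s => by
    rw [IsScalarTower.algebraMap_apply S A₀ B₀, ← IsScalarTower.algebraMap_apply A₀ B₀ P,
      IsScalarTower.algebraMap_apply A₀ A P, ← IsScalarTower.algebraMap_apply S A₀ A,
      ← IsScalarTower.algebraMap_apply S A P]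
  obtain ⟨Asub, hAsub, hdA⟩ := exists_stage_diag (B := B₀) (R := P) (C := B₀ ⊗[S] C₁) (M := M)
    ((cancelBC S C₁ B₀ P).trans ((((cancelBC S C₁ R' P).symm).trans (bcEquiv P eM)).trans (diagBC R' P M)))
  haveI : Algebra.FiniteType B₀ Asub := Asub.fg_iff_finiteType.1 hAsub
  haveI : Algebra.FiniteType A₀ Asub := Algebra.FiniteType.trans (S := B₀) inferInstance inferInstance
  haveI : Algebra.FinitePresentation A₀ Asub :=
    (Algebra.FinitePresentation.of_finiteType (R := A₀) (A := Asub)).1 inferInstance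
  obtain ⟨T₁, hT₁, g, hg⟩ := exists_stage_hom (R₀ := A₀) (R := A) (Y := B₀) (X := Asub) (Asub.val.restrictScalars A₀)
  obtain ⟨T₃, hT₃, hff⟩ := exists_stage_surj (A₀ := A₀) (A := A) (B₀ := B₀)
  obtain ⟨T₄, hT₄, hfin⟩ : ∃ T₄ : Subalgebra A₀ A, T₄.FG ∧
      (Module.Finite A R' → ∀ T : Subalgebra A₀ A, T₄ ≤ T → Module.Finite T (T ⊗[A₀] B₀)) := by
    by_cases hF : Module.Finite A R'
    · haveI : Module.Finite A P := Module.Finite.equiv eP.toLinearEquiv
      obtain ⟨T₄, h, h'⟩ := exists_stage_finite (A₀ := A₀) (A := A) (B₀ := B₀)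
      exact ⟨T₄, h, fun _ => h'⟩
    · exact ⟨⊥, Subalgebra.fg_bot, fun h => absurd h hF⟩
  let T : Subalgebra A₀ A := T₁ ⊔ T₃ ⊔ T₄
  have hT : T.FG := (hT₁.sup hT₃).sup hT₄
  have h₂ : T₁ ≤ T := le_sup_left.trans le_sup_left
  haveI : Algebra.FiniteType A₀ T := T.fg_iff_finiteType.1 hT
  haveI : Algebra.FiniteType S T := Algebra.FiniteType.trans (S := A₀) inferInstance inferInstance
  let R₀ := T ⊗[A₀] B₀
  let g' : Asub →ₐ[A₀] R₀ := (subPush B₀ h₂).comp g
  letI : Algebra Asub R₀ := g'.toRingHom.toAlgebra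
  haveI : IsScalarTower S Asub R₀ := IsScalarTower.of_algebraMap_eq fun s => by
    show algebraMap S R₀ s = g' (algebraMap S Asub s)
    rw [IsScalarTower.algebraMap_apply S A₀ R₀, ← g'.commutes, IsScalarTower.algebraMap_apply S B₀ Asub,
      IsScalarTower.algebraMap_apply S A₀ B₀, ← IsScalarTower.algebraMap_apply A₀ B₀ Asub]
  refine ⟨T.restrictScalars S, R₀, inferInstance, (inferInstance : Algebra T R₀), inferInstance,
    (inferInstance : IsScalarTower S T R₀), (T.restrictScalars S).fg_iff_finiteType.2 ‹Algebra.FiniteType S T›,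
    (inferInstance : Algebra.Etale T R₀), hff T (le_sup_right.trans le_sup_left),
    fun h => hfin h T le_sup_right, ?_⟩
  exact isDiag_baseChange Asub R₀ (isDiag_of_tensor_tensor B₀ Asub hdA)

end Groth.Agent.MTUnion29
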